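import Cfsg.Agent.Lib.SmallOrder.SingularCount
import Cfsg.Agent.Lib.Invol.Counting
import Mathlib.GroupTheory.Perm.Cycle.Type

/-!
Counting subgroups of prime order and involutions in finite groups.
-/

set_option autoImplicit false
set_option linter.style.haveILetI false

namespace CfsgLib.Order175560

open Subgroup CfsgLib.SmallOrder

universe u

variable {G : Type u} [Group G]

/-- the number of subgroups of order `p` inside `H` -/
noncomputable def numSub (p : ℕ) (H : Subgroup G) : ℕ :=
  Nat.card {K : Subgroup G // K ≤ H ∧ Nat.card K = p}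

/-- the number of involutions of `H` -/
noncomputable def numInv (H : Subgroup G) : ℕ :=
  Nat.card {u : G // orderOf u = 2 ∧ u ∈ H}

theorem numSub_map_equiv {G' : Type*} [Group G'] (e : G ≃* G') (p : ℕ) (H : Subgroup G) :
    numSub p (H.map e.toMonoidHom) = numSub p H := by
  refine (Nat.card_congr (e.mapSubgroup.toEquiv.subtypeEquiv fun K => ?_)).symm
  refine and_congr ?_ ?_
  · exact (Subgroup.map_le_map_iff_of_injective e.injective).symm
  · show _ ↔ Nat.card ↥(K.map e.toMonoidHom) = p
    rw [Subgroup.card_map_of_injective e.injective]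

theorem numInv_map_equiv {G' : Type*} [Group G'] (e : G ≃* G') (H : Subgroup G) :
    numInv (H.map e.toMonoidHom) = numInv H := by
  refine (Nat.card_congr (e.toEquiv.subtypeEquiv fun u => ?_)).symm
  refine and_congr ?_ ?_
  · show _ ↔ orderOf (e u) = 2
    rw [MulEquiv.orderOf_eq]
  · exact ⟨fun h => mem_map_of_mem _ h, fun ⟨v, hv, hvu⟩ => e.injective hvu ▸ hv⟩

variable [Finite G] {p : ℕ} [Fact p.Prime]

/-- Sylow subgroups of order `p` are all the subgroups of order `p`. -/
theorem card_sylow_eq_numSub {H : Subgroup G} (hd : p ∣ Nat.card H) (h2 : ¬ p ^ 2 ∣ Nat.card H) :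
    Nat.card (Sylow p H) = numSub p H := by
  obtain ⟨m, hm⟩ := hd
  have hpm : ¬ p ∣ m := fun h => h2 (by rw [hm, pow_two]; exact mul_dvd_mul_left p h)
  have hc : ∀ P : Sylow p H, Nat.card ↥((P : Subgroup H).map H.subtype) = p := fun P => by
    rw [Subgroup.card_map_of_injective H.subtype_injective,
      card_sylow_eq (e := 1) (m := m) (by rw [pow_one]; exact hm) hpm P, pow_one]
  refine Nat.card_congr (Equiv.ofBijective
    (fun P => ⟨(P : Subgroup H).map H.subtype, Subgroup.map_subtype_le _, hc P⟩) ⟨?_, ?_⟩)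
  · intro P Q h
    exact Sylow.ext (Subgroup.map_injective H.subtype_injective (congrArg Subtype.val h))
  · rintro ⟨K, hK, hKc⟩
    have h1 : Nat.card (K.subgroupOf H) = p := by
      rw [Nat.card_congr (Subgroup.subgroupOfEquivOfLe hK).toEquiv, hKc]
    obtain ⟨Q, hQ⟩ := (IsPGroup.of_card (p := p) (n := 1) (G := K.subgroupOf H)
      (by rw [h1, pow_one])).exists_le_sylow
    have he : K.subgroupOf H = (Q : Subgroup H) := eq_of_le_of_card_ge hQ (by
      rw [h1, card_sylow_eq (e := 1) (m := m) (by rw [pow_one]; exact hm) hpm Q, pow_one])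
    refine ⟨Q, Subtype.ext ?_⟩
    show (Q : Subgroup H).map H.subtype = K
    rw [← he, Subgroup.map_subgroupOf_eq_of_le hK]

theorem numSub_top (hd : p ∣ Nat.card G) (h2 : ¬ p ^ 2 ∣ Nat.card G) :
    numSub p (⊤ : Subgroup G) = Nat.card (Sylow p G) := by
  obtain ⟨m, hm⟩ := hd
  have hpm : ¬ p ∣ m := fun h => h2 (by rw [hm, pow_two]; exact mul_dvd_mul_left p h)
  have hc : ∀ P : Sylow p G, Nat.card ↥(P : Subgroup G) = p := fun P => by
    rw [card_sylow_eq (e := 1) (m := m) (by rw [pow_one]; exact hm) hpm P, pow_one]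
  refine (Nat.card_congr (Equiv.ofBijective
    (fun P : Sylow p G => (⟨(P : Subgroup G), le_top, hc P⟩ :
      {K : Subgroup G // K ≤ ⊤ ∧ Nat.card K = p})) ⟨?_, ?_⟩)).symm
  · intro P Q h
    exact Sylow.ext (congrArg Subtype.val h : (P : Subgroup G) = Q)
  · rintro ⟨K, -, hKc⟩
    obtain ⟨Q, hQ⟩ := (IsPGroup.of_card (p := p) (n := 1) (G := K)
      (by rw [hKc, pow_one])).exists_le_sylow
    exact ⟨Q, Subtype.ext (eq_of_le_of_card_ge hQ (by rw [hc Q, hKc])).symm⟩

/-- The subgroups of order `p` in `H` are conjugate in `H`, so their number is an index. -/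
theorem numSub_facts {H K : Subgroup G} (hKH : K ≤ H) (hK : Nat.card K = p)
    (h2 : ¬ p ^ 2 ∣ Nat.card H) :
    numSub p H % p = 1 ∧
      numSub p H * Nat.card ↥(H ⊓ normalizer (K : Set G)) = Nat.card H := by
  have hd : p ∣ Nat.card H := hK ▸ Subgroup.card_dvd_of_le hKH
  have he := card_sylow_eq_numSub hd h2
  refine ⟨?_, ?_⟩
  · rw [← he]
    have := card_sylow_modEq_one p H
    rwa [Nat.ModEq, Nat.one_mod_eq_one.2 (Fact.out : p.Prime).ne_one] at this
  · obtain ⟨m, hm⟩ := hd
    have hpm : ¬ p ∣ m := fun h => h2 (by rw [hm, pow_two]; exact mul_dvd_mul_left p h)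
    obtain ⟨T, hT⟩ := exists_sylow_eq_of_card (G := H) (p := p) hm hpm (S := K.subgroupOf H)
      (by rw [Nat.card_congr (Subgroup.subgroupOfEquivOfLe hKH).toEquiv, hK])
    rw [← he, mul_comm]
    have h := card_normalizer_mul T
    rw [hT, ← Subgroup.subgroupOf_normalizer_eq hKH,
      ← Subgroup.inf_subgroupOf_left,
      Nat.card_congr (Subgroup.subgroupOfEquivOfLe (inf_le_left :
        H ⊓ normalizer (K : Set G) ≤ H)).toEquiv] at h
    exact h
where
  exists_sylow_eq_of_card {G : Type u} [Group G] [Finite G] {p : ℕ} [Fact p.Prime] {m : ℕ}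
      (hG : Nat.card G = p * m) (hm : ¬ p ∣ m) {S : Subgroup G} (hS : Nat.card S = p) :
      ∃ T : Sylow p G, (T : Subgroup G) = S := by
    obtain ⟨T, hT⟩ := (IsPGroup.of_card (n := 1) (by rw [hS, pow_one])).exists_le_sylow
    exact ⟨T, (Subgroup.eq_of_le_of_card_ge hT (by
      rw [hS, card_sylow_eq (e := 1) (m := m) (by rw [hG, pow_one]) hm T, pow_one])).symm⟩

/-- A group of even order has an odd number of involutions. -/
theorem numInv_odd {H : Subgroup G} (h : 2 ∣ Nat.card H) : numInv H % 2 = 1 := by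
  classical
  haveI : Fact (Nat.Prime 2) := ⟨Nat.prime_two⟩
  cases nonempty_fintype G
  let σ : Function.End H := fun x => x⁻¹
  have hσ : σ ^ 2 ^ 1 = 1 := funext fun x => inv_inv x
  have h1 := Equiv.Perm.card_fixedPoints_modEq (p := 2) (n := 1) hσ
  rw [← Nat.card_eq_fintype_card, ← Nat.card_eq_fintype_card] at h1
  have h2 : Nat.card (Function.fixedPoints σ) = numInv H + 1 := by
    let f : Option {u : G // orderOf u = 2 ∧ u ∈ H} → Function.fixedPoints σ := fun o =>
      o.elim ⟨1, inv_one⟩ fun u => ⟨⟨u.1, u.2.2⟩, Subtype.ext (inv_eq_of_mul_eq_one_right (by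
        have hu := pow_orderOf_eq_one u.1
        rw [u.2.1, pow_two] at hu
        exact hu))⟩
    rw [← Nat.card_congr (Equiv.ofBijective f ⟨?_, ?_⟩), numInv, Finite.card_option]
    · rintro (_ | u) (_ | v) e
      · rfl
      · have h' : (1 : G) = v.1 := congrArg (fun z => ((z.1 : H) : G)) e
        have := v.2.1
        rw [← h', orderOf_one] at this
        omega
      · have h' : u.1 = (1 : G) := congrArg (fun z => ((z.1 : H) : G)) e
        have := u.2.1
        rw [h', orderOf_one] at this
        omega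
      · exact congrArg some (Subtype.ext (congrArg (fun z => ((z.1 : H) : G)) e))
    · rintro ⟨⟨x, hx⟩, hfix⟩
      by_cases hx1 : x = 1
      · exact ⟨none, Subtype.ext (Subtype.ext hx1.symm)⟩
      · refine ⟨some ⟨x, orderOf_eq_prime ?_ hx1, hx⟩, rfl⟩
        have hinv : x⁻¹ = x := congrArg Subtype.val (hfix : (⟨x, hx⟩ : H)⁻¹ = ⟨x, hx⟩)
        rw [pow_two]
        nth_rw 1 [← hinv]
        exact inv_mul_cancel x
  rw [h2, Nat.ModEq] at h1
  omega

omit [Finite G] [Fact p.Prime] in
theorem le_centralizer_singleton_iff {K : Subgroup G} {u : G} :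
    K ≤ centralizer ({u} : Set G) ↔ u ∈ centralizer (K : Set G) := by
  rw [mem_centralizer_iff]
  constructor
  · exact fun h y hy => mem_centralizer_singleton_iff.1 (h hy)
  · exact fun h y hy => mem_centralizer_singleton_iff.2 (h y hy)

/-- Fewer involutions than the order of the `p'`-part of the centraliser. -/
theorem numInv_lt {K : Subgroup G} (hK : Nat.card K = p) (hp2 : p ≠ 2) {c : ℕ}
    (hc : Nat.card ↥(centralizer (K : Set G)) = p * c) : numInv (centralizer (K : Set G)) < c := by
  have hp : p.Prime := Fact.out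
  obtain ⟨j, hj⟩ : Odd p := hp.odd_of_ne_two hp2
  set C := centralizer (K : Set G) with hC
  have hcomm : ∀ (u : {u : G // orderOf u = 2 ∧ u ∈ C}) (x : K), (u.1 * x.1) ^ p = u.1 := by
    rintro ⟨u, hu, huC⟩ ⟨x, hx⟩
    have hu2 : u ^ 2 = 1 := hu ▸ pow_orderOf_eq_one u
    have hxp : x ^ p = 1 := orderOf_dvd_iff_pow_eq_one.1 (hK ▸ Subgroup.orderOf_dvd_natCard _ hx)
    have hux : Commute u x := (mem_centralizer_iff.1 huC x hx).symm
    show (u * x) ^ p = u
    rw [hux.mul_pow, hxp, mul_one, hj, pow_succ, pow_mul, hu2, one_pow, one_mul]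
  have hK' : K ≤ C := by
    have hcy : IsCyclic K := isCyclic_of_prime_card hK
    intro x hx
    refine mem_centralizer_iff.2 fun y hy => ?_
    have hab := (IsCyclic.commGroup (α := K)).mul_comm ⟨y, hy⟩ ⟨x, hx⟩
    exact congrArg Subtype.val hab
  let f : Option {u : G // orderOf u = 2 ∧ u ∈ C} × K → C := fun z =>
    z.1.elim ⟨z.2.1, hK' z.2.2⟩ fun u => ⟨u.1 * z.2.1, mul_mem u.2.2 (hK' z.2.2)⟩
  have hf : Function.Injective f := by
    rintro ⟨o, x⟩ ⟨o', y⟩ e
    have e' : (f (o, x) : G) = f (o', y) := congrArg Subtype.val e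
    rcases o with _ | u <;> rcases o' with _ | v <;> simp only [f, Option.elim] at e'
    · exact Prod.ext rfl (Subtype.ext e')
    · exfalso
      have h1 := hcomm v y
      rw [← e', orderOf_dvd_iff_pow_eq_one.1 (hK ▸ Subgroup.orderOf_dvd_natCard _ x.2)] at h1
      have := v.2.1
      rw [← h1, orderOf_one] at this
      omega
    · exfalso
      have h1 := hcomm u x
      rw [e', orderOf_dvd_iff_pow_eq_one.1 (hK ▸ Subgroup.orderOf_dvd_natCard _ y.2)] at h1
      have := u.2.1
      rw [← h1, orderOf_one] at this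
      omega
    · have huv : u = v := Subtype.ext (by rw [← hcomm u x, e', hcomm v y])
      subst huv
      exact Prod.ext rfl (Subtype.ext (mul_left_cancel e'))
  have h := Nat.card_le_card_of_injective f hf
  rw [Nat.card_prod, Finite.card_option, hK, hc, mul_comm p c] at h
  exact Nat.le_of_mul_le_mul_right h hp.pos

omit [Fact p.Prime] in
/-- Counting commuting pairs, when the involutions are conjugate and so are the subgroups. -/
theorem card_pairs {X i : ℕ} (hX : ∀ u : G, orderOf u = 2 →
      numSub p (centralizer ({u} : Set G)) = X)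
    (hi : ∀ K : Subgroup G, Nat.card K = p → numInv (centralizer (K : Set G)) = i) :
    Nat.card {u : G // orderOf u = 2} * X = numSub p (⊤ : Subgroup G) * i := by
  classical
  cases nonempty_fintype G
  haveI : Fintype (Subgroup G) := Fintype.ofFinite _
  let A := Σ u : {u : G // orderOf u = 2}, {K : Subgroup G // K ≤ centralizer ({u.1} : Set G) ∧ Nat.card K = p}
  let B := Σ K : {K : Subgroup G // K ≤ (⊤ : Subgroup G) ∧ Nat.card K = p},
    {u : G // orderOf u = 2 ∧ u ∈ centralizer (K.1 : Set G)}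
  let e : A ≃ B :=
    { toFun := fun a => ⟨⟨a.2.1, le_top, a.2.2.2⟩, a.1.1, a.1.2, le_centralizer_singleton_iff.1 a.2.2.1⟩
      invFun := fun b => ⟨⟨b.2.1, b.2.2.1⟩, b.1.1, le_centralizer_singleton_iff.2 b.2.2.2, b.1.2.2⟩
      left_inv := fun _ => rfl
      right_inv := fun _ => rfl }
  have h := Nat.card_congr e
  have hA : Nat.card A = Nat.card {u : G // orderOf u = 2} * X := by
    rw [Nat.card_sigma, Finset.sum_congr rfl (g := fun _ => X) (fun u _ => hX u.1 u.2),
      Finset.sum_const, smul_eq_mul, Finset.card_univ, ← Nat.card_eq_fintype_card]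
  have hB : Nat.card B = numSub p (⊤ : Subgroup G) * i := by
    rw [Nat.card_sigma, Finset.sum_congr rfl (g := fun _ => i) (fun K _ => hi K.1 K.2.2),
      Finset.sum_const, smul_eq_mul, Finset.card_univ, ← Nat.card_eq_fintype_card, numSub]
  rw [← hA, h, hB]

end CfsgLib.Order175560
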