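import Cfsg.Agent.Lib.Order175560.Count
import Cfsg.Agent.Lib.Present.BinIcosahedral
import Cfsg.Agent.Lib.Solvable.Basic

/-!
A group of order 120 with a central involution, six Sylow 5-subgroups, ten Sylow 3-subgroups and a further
involution is a direct product of a group of order two and the alternating group of degree five.
-/

set_option autoImplicit false
set_option linter.style.haveILetI false

namespace CfsgLib.Order175560

open Subgroup

universe u

theorem altFive_involutions : ∀ a b : alternatingGroup (Fin 5), a * a = 1 → b * b = 1 → a ≠ 1 →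
    b ≠ 1 → ∃ c : alternatingGroup (Fin 5), c * a = b * c := by decide +kernel

theorem altFive_four : ∀ a : alternatingGroup (Fin 5), a * a * (a * a) = 1 → a * a = 1 := by
  decide +kernel

variable {C : Type u} [Group C] [Finite C]

theorem not_isSolvable_of_counts (h5 : Nat.card C = 120) (n5 : numSub 5 (⊤ : Subgroup C) = 6)
    (n3 : numSub 3 (⊤ : Subgroup C) = 10) : ¬ Group.IsSolvable C := by
  classical
  suffices key : ∀ N : ℕ, ∀ H : Subgroup C, Nat.card H = N → numSub 5 H = 6 → numSub 3 H = 10 →
      ¬ Group.IsSolvable H by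
    intro h
    exact key _ ⊤ rfl n5 n3 inferInstance
  intro N
  induction N using Nat.strong_induction_on with
  | _ N ih =>
    intro H hN k5 k3 hsol
    subst hN
    have hd : Nat.card H ∣ 120 := h5 ▸ card_subgroup_dvd_card H
    have sub : ∀ (p k : ℕ), p.Prime → ¬ p ^ 2 ∣ 120 → numSub p H = k → 1 < k → k * p ∣ Nat.card H := by
      intro p k hp hp2 hk hk1
      haveI := Fact.mk hp
      obtain ⟨⟨K, hKH, hK⟩⟩ : Nonempty {K : Subgroup C // K ≤ H ∧ Nat.card K = p} :=
        (Nat.card_ne_zero.1 (show numSub p H ≠ 0 by omega)).1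
      have h := (numSub_facts hKH hK fun h => hp2 (h.trans hd)).2
      rw [hk] at h
      refine h ▸ mul_dvd_mul_left k (hK ▸ card_dvd_of_le (le_inf hKH le_normalizer))
    haveI : Nontrivial H := Finite.one_lt_card_iff_nontrivial.1 (by
      have := Nat.le_of_dvd Nat.card_pos (sub 5 6 Nat.prime_five (by norm_num) k5 (by norm_num))
      omega)
    haveI := hsol
    obtain ⟨M₀, hM₀, -, hq⟩ := CfsgLib.Solvable.exists_normal_prime_index (G := H)
    haveI := hM₀
    set M := M₀.map H.subtype with hMdef
    have hMc : Nat.card M * M₀.index = Nat.card H := by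
      rw [hMdef, card_map_of_injective H.subtype_injective, card_mul_index]
    have hMH : M ≤ H := map_subtype_le M₀
    have same : ∀ p : ℕ, p.Prime → p ≠ M₀.index → numSub p M = numSub p H := by
      intro p hp hpq
      refine Nat.card_congr (Equiv.subtypeEquivRight fun K =>
        ⟨fun h => ⟨h.1.trans hMH, h.2⟩, fun h => ⟨fun x hx => ?_, h.2⟩⟩)
      refine ⟨⟨x, h.1 hx⟩, (QuotientGroup.eq_one_iff _).1 (orderOf_eq_one_iff.1
        (Nat.eq_one_of_dvd_coprimes ((Nat.coprime_primes hp hq).2 hpq) ?_ ?_)), rfl⟩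
      · refine (orderOf_map_dvd (QuotientGroup.mk' M₀) _).trans ?_
        rw [Subgroup.orderOf_mk]
        exact (orderOf_dvd_natCard K hx).trans (dvd_of_eq h.2)
      · exact orderOf_dvd_natCard _
    have hMd : Nat.card M ∣ 120 := h5 ▸ card_subgroup_dvd_card M
    have sub' : ∀ p k : ℕ, p.Prime → ¬ p ^ 2 ∣ 120 → p ≠ M₀.index → numSub p H = k → 1 < k →
        k * p ∣ Nat.card M := by
      intro p k hp hp2 hpq hk hk1
      haveI := Fact.mk hp
      have hkM : numSub p M = k := (same p hp hpq).trans hk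
      obtain ⟨⟨K, hKH, hK⟩⟩ : Nonempty {K : Subgroup C // K ≤ M ∧ Nat.card K = p} :=
        (Nat.card_ne_zero.1 (show numSub p M ≠ 0 by omega)).1
      have h := (numSub_facts hKH hK fun h => hp2 (h.trans hMd)).2
      rw [hkM] at h
      exact h ▸ mul_dvd_mul_left k (hK ▸ card_dvd_of_le (le_inf hKH le_normalizer))
    have hq120 : M₀.index ∣ 120 := ((Dvd.intro_left _ hMc).trans hd)
    have hqle := Nat.le_of_dvd (by norm_num) hq120
    have hcases : M₀.index = 2 ∨ M₀.index = 3 ∨ M₀.index = 5 := by
      have hm : M₀.index ∈ Nat.primeFactors 120 := Nat.mem_primeFactors.2 ⟨hq, hq120, by norm_num⟩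
      rw [show Nat.primeFactors 120 = {2, 3, 5} by decide +kernel] at hm
      simpa using hm
    rcases hcases with e | e | e
    · refine ih (Nat.card M) ?_ M rfl ((same 5 Nat.prime_five (by omega)).trans k5)
        ((same 3 Nat.prime_three (by omega)).trans k3) ?_
      · have : 0 < Nat.card M := Nat.card_pos
        rw [← hMc, e]
        omega
      · exact Group.isSolvable_of_isSolvable_injective (Subgroup.inclusion_injective hMH)
    · have h := sub' 5 6 Nat.prime_five (by norm_num) (by omega) k5 (by norm_num)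
      have h90 : 6 * 5 * 3 ∣ 120 := (Nat.mul_dvd_mul_right h _).trans (e ▸ dvd_of_eq hMc |>.trans hd)
      norm_num at h90
    · have h := sub' 3 10 Nat.prime_three (by norm_num) (by omega) k3 (by norm_num)
      have h90 : 10 * 3 * 5 ∣ 120 := (Nat.mul_dvd_mul_right h _).trans (e ▸ dvd_of_eq hMc |>.trans hd)
      norm_num at h90

/-- The structure of the group. -/
theorem equiv_two_times_altFive {z u : C} (hz : orderOf z = 2) (hzc : z ∈ center C)
    (hu : orderOf u = 2) (huz : u ≠ z) (hC : Nat.card C = 120) (hns : ¬ Group.IsSolvable C)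
    (S : Sylow 2 C) : IsMulCommutative (S : Subgroup C) ∧
      Nonempty (C ≃* Multiplicative (ZMod 2) × alternatingGroup (Fin 5)) := by
  classical
  haveI : Fact (Nat.Prime 2) := ⟨Nat.prime_two⟩
  set Z := zpowers z with hZ
  have hZc : Z ≤ center C := zpowers_le.2 hzc
  haveI hZn : Z.Normal := ⟨fun x hx g => by rw [mem_center_iff.1 (hZc hx) g, mul_inv_cancel_right]; exact hx⟩
  have hZcard : Nat.card Z = 2 := by rw [hZ, Nat.card_zpowers, hz]
  have hZmem : ∀ x ∈ Z, x = 1 ∨ x = z := by
    intro x hx
    obtain ⟨m, hm⟩ := (isOfFinOrder_of_finite z).mem_powers_iff_mem_zpowers.2 hx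
    change z ^ m = x at hm
    rw [← hm, ← pow_mod_orderOf, hz]
    rcases Nat.mod_two_eq_zero_or_one m with e | e <;> simp [e]
  have hQ : Nat.card (C ⧸ Z) = 60 := by
    have := Z.card_mul_index
    rw [hZcard, hC] at this
    rw [← Subgroup.index_eq_card]
    omega
  have hQns : ¬ Group.IsSolvable (C ⧸ Z) := fun h => hns <| by
    haveI : IsMulCommutative Z := ⟨⟨fun a b => Subtype.ext (mem_center_iff.1 (hZc b.2) a)⟩⟩
    exact Group.isSolvable_iff_subgroup_quotient Z |>.mpr ⟨inferInstance, h⟩
  obtain ⟨e⟩ := CfsgLib.Present.nonsolvable_sixty hQ hQns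
  let π : C →* alternatingGroup (Fin 5) := e.toMonoidHom.comp (QuotientGroup.mk' Z)
  have hπs : Function.Surjective π := e.surjective.comp (QuotientGroup.mk'_surjective Z)
  have hπk : ∀ x, π x = 1 ↔ x ∈ Z := fun x => by
    rw [← QuotientGroup.eq_one_iff]
    exact e.map_eq_one_iff
  have hu2 : u * u = 1 := by rw [← pow_two, ← hu]; exact pow_orderOf_eq_one u
  have hz2 : z * z = 1 := by rw [← pow_two, ← hz]; exact pow_orderOf_eq_one z
  have hu1 : π u ≠ 1 := fun h => by
    rcases hZmem u ((hπk u).1 h) with h1 | h1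
    · rw [h1, orderOf_one] at hu; omega
    · exact huz h1
  -- preimages of involutions are involutions
  have hinv : ∀ s : C, π s * π s = 1 → s * s = 1 := by
    intro s hs
    by_cases h1 : π s = 1
    · rcases hZmem s ((hπk s).1 h1) with h | h <;> rw [h]
      · exact one_mul 1
      · exact hz2
    obtain ⟨c, hc⟩ := altFive_involutions (π u) (π s) (by rw [← map_mul, hu2, map_one]) hs hu1 h1
    obtain ⟨g, rfl⟩ := hπs c
    have hd : π ((g * u * g⁻¹)⁻¹ * s) = 1 := by
      rw [map_mul, map_inv, map_mul, map_inv, map_mul] at *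
      rw [hc]
      group
    rcases hZmem _ ((hπk _).1 hd) with h | h
    · rw [inv_mul_eq_one] at h
      rw [← h]
      calc g * u * g⁻¹ * (g * u * g⁻¹) = g * (u * u) * g⁻¹ := by group
        _ = 1 := by rw [hu2]; group
    · have hs' : s = g * u * g⁻¹ * z := by rw [← h]; group
      rw [hs']
      calc g * u * g⁻¹ * z * (g * u * g⁻¹ * z) = g * u * g⁻¹ * (z * (g * u * g⁻¹)) * z := by
            simp only [mul_assoc]
        _ = g * u * g⁻¹ * (g * u * g⁻¹ * z) * z := by rw [← mem_center_iff.1 hzc (g * u * g⁻¹)]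
        _ = g * (u * u) * g⁻¹ * (z * z) := by group
        _ = 1 := by rw [hu2, hz2]; group
  have hScard : Nat.card (S : Subgroup C) = 8 := by
    simpa using CfsgLib.SmallOrder.card_sylow_eq (e := 3) (m := 15) (by rw [hC]; norm_num) (by norm_num) S
  have hS2 : ∀ s ∈ (S : Subgroup C), s * s = 1 := by
    intro s hs
    have hd : orderOf s ∣ 8 := hScard ▸ orderOf_dvd_natCard _ hs
    have h8 : s ^ 8 = 1 := orderOf_dvd_iff_pow_eq_one.1 hd
    have h4 : π s * π s * (π s * π s) = 1 := by
      have hh : π (s * s) * π (s * s) * (π (s * s) * π (s * s)) = 1 := by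
        rw [← map_mul, ← map_mul, ← map_one π]
        congr 1
        rw [← h8]; simp only [pow_succ, pow_zero, one_mul, mul_assoc]
      have := altFive_four _ hh
      rwa [map_mul] at this
    exact hinv s (altFive_four _ h4)
  have hScomm : IsMulCommutative (S : Subgroup C) := ⟨⟨fun a b => Subtype.ext (by
    have hab : ((a : C) * b) * (a * b) = 1 := hS2 _ (mul_mem a.2 b.2)
    have ha := inv_eq_of_mul_eq_one_right (hS2 _ a.2)
    have hb := inv_eq_of_mul_eq_one_right (hS2 _ b.2)
    show (a : C) * b = b * a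
    rw [← inv_eq_of_mul_eq_one_right hab, mul_inv_rev, ha, hb])⟩⟩
  refine ⟨hScomm, ?_⟩
  letI : CommGroup (S : Subgroup C) :=
    { (inferInstance : Group (S : Subgroup C)) with mul_comm := fun a b => hScomm.is_comm.comm a b }
  have hzS : z ∈ (S : Subgroup C) := by
    obtain ⟨T, hT⟩ := (IsPGroup.of_card (p := 2) (n := 1) (G := Z) (by rw [hZcard, pow_one])).exists_le_sylow
    obtain ⟨g, hg⟩ := MulAction.exists_smul_eq C T S
    rw [← hg, Sylow.coe_subgroup_smul, Subgroup.mem_pointwise_smul_iff_inv_smul_mem, ← map_inv,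
      MulAut.smul_def, MulAut.conj_apply, mem_center_iff.1 hzc g⁻¹, inv_inv, mul_assoc, inv_mul_cancel,
      mul_one]
    exact hT (mem_zpowers z)
  have hidx : (S : Subgroup C).index = 15 := by
    have := (S : Subgroup C).card_mul_index
    rw [hScard, hC] at this
    omega
  let V : C →* (S : Subgroup C) := MonoidHom.transfer (MonoidHom.id (S : Subgroup C))
  have hVz : (V z : C) = z := by
    have hkey : ∀ (k : ℕ) (g₀ : C), g₀⁻¹ * z ^ k * g₀ ∈ (S : Subgroup C) →
        g₀⁻¹ * z ^ k * g₀ = z ^ k := fun k g₀ _ => by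
      rw [mul_assoc, ← mem_center_iff.1 (pow_mem hzc k) g₀, inv_mul_cancel_left]
    rw [show V z = _ from MonoidHom.transfer_eq_pow (MonoidHom.id (S : Subgroup C)) z hkey]
    show z ^ (S : Subgroup C).index = z
    rw [hidx, ← pow_mod_orderOf, hz, show 15 % 2 = 1 from rfl, pow_one]
  set K := V.ker with hK
  have hKZ : ∀ x ∈ K, x ∈ Z → x = 1 := by
    intro x hx hxZ
    rcases hZmem x hxZ with h | h
    · exact h
    · exfalso
      have h1 : V z = 1 := h ▸ (MonoidHom.mem_ker.1 hx)
      rw [h1] at hVz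
      rw [← hVz] at hz
      simp at hz
  haveI : IsSimpleGroup (alternatingGroup (Fin 5)) := alternatingGroup.isSimpleGroup (by simp)
  have hKπ : K.map π = ⊤ := by
    refine ((inferInstance : K.Normal).map π hπs).eq_bot_or_eq_top.resolve_left fun h => ?_
    have hbot : K = ⊥ := eq_bot_iff.2 fun x hx => by
      rw [mem_bot]
      exact hKZ x hx ((hπk x).1 (mem_bot.1 (h ▸ mem_map_of_mem π hx)))
    have := Nat.card_le_card_of_injective V ((MonoidHom.ker_eq_bot_iff V).1 hbot)
    rw [hC, hScard] at this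
    omega
  have hKc : 60 ≤ Nat.card K := by
    have := Nat.card_le_card_of_surjective (π.subgroupMap K) (π.subgroupMap_surjective K)
    rwa [hKπ, Subgroup.card_top, ← Nat.card_congr e.toEquiv, hQ] at this
  have hr : Nat.card V.range = 2 := by
    have h := K.card_mul_index
    rw [hC, Subgroup.index_ker] at h
    have h1 : Nat.card V.range ≠ 1 := fun h1 => by
      have hbot := Subgroup.card_eq_one.1 h1
      have : V z = 1 := mem_bot.1 (hbot ▸ ⟨z, rfl⟩)
      rw [this] at hVz
      rw [← hVz] at hz
      simp at hz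
    have h0 : 0 < Nat.card V.range := Nat.card_pos
    have hle : 60 * Nat.card V.range ≤ Nat.card K * Nat.card V.range := Nat.mul_le_mul_right _ hKc
    omega
  haveI : IsCyclic V.range := isCyclic_of_prime_card hr
  have hcV : Nat.card (Multiplicative (ZMod 2)) = Nat.card V.range := by
    rw [hr, Nat.card_congr Multiplicative.toAdd, Nat.card_zmod]
  let χ : C →* Multiplicative (ZMod 2) :=
    (mulEquivOfCyclicCardEq hcV).symm.toMonoidHom.comp V.rangeRestrict
  refine ⟨MulEquiv.ofBijective (χ.prod π) ((Nat.bijective_iff_injective_and_card _).2 ⟨?_, ?_⟩)⟩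
  · rw [← MonoidHom.ker_eq_bot_iff, eq_bot_iff]
    intro x hx
    rw [MonoidHom.mem_ker, Prod.ext_iff] at hx
    rw [mem_bot]
    refine hKZ x ?_ ((hπk x).1 hx.2)
    have h1 : V.rangeRestrict x = 1 := (mulEquivOfCyclicCardEq hcV).symm.map_eq_one_iff.1 hx.1
    exact congrArg Subtype.val h1
  · rw [Nat.card_prod, hcV, hr, ← Nat.card_congr e.toEquiv, hQ, hC]

end CfsgLib.Order175560
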