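import Cfsg.Agent.Lib.SmallOrder.SingularCount

/-!
The order 175560: the arithmetical constraints on the normalisers of the Sylow subgroups of odd order
leave two possibilities.
-/

set_option autoImplicit false

namespace CfsgLib.Order175560

open CfsgLib.SmallOrder

/-- the order -/
def ord : ℕ := 175560

/-- a Sylow `q`-subgroup inside the centraliser of a Sylow `p`-subgroup; data `(p, n, c)` -/
def nestOK (x y : ℕ × ℕ × ℕ) : Bool :=
  Nat.beq x.1 y.1 || (!(Nat.beq (x.2.2 % y.1) 0) ||
    (Nat.beq (y.2.2 % x.1) 0 && (List.range (x.2.2 / y.1 + 1)).any fun k =>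
      Nat.beq (x.2.2 / y.1 % k) 0 && (Nat.beq (k % y.1) 1 &&
        Nat.beq (ord / y.2.1 % (ord / x.2.1 / k)) 0)))

/-- the counts of a prime in the centraliser of an involution -/
def invChoice (X : ℕ) (x : ℕ × ℕ × ℕ) (m i : ℕ) : Bool :=
  Nat.beq (X / x.1 % m) 0 && (Nat.beq (m % x.1) 1 && (Nat.beq (ord / x.2.1 % (X / m)) 0 &&
    (Nat.beq (ord / X * m) (x.2.1 * i) && (Nat.beq (i % 2) 1 && Nat.blt i x.2.2))))

/-- some counts are possible -/
def invOK (X : ℕ) (x : ℕ × ℕ × ℕ) : Bool :=
  !(Nat.beq (x.2.2 % 2) 0) || (List.range (X / x.1 + 1)).any fun m =>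
    invChoice X x m (ord / X * m / x.2.1)

/-- the order of the centraliser of an involution -/
def centOrd : List (ℕ × ℕ × ℕ) → ℕ
  | [] => 8
  | x :: r => (bif Nat.beq (x.2.2 % 2) 0 then x.1 else 1) * centOrd r

/-- pairwise independent primes -/
def indep : List (ℕ × ℕ × ℕ) → Bool
  | [] => true
  | x :: r => (r.all fun y => !(Nat.beq (x.2.2 % y.1) 0)) && indep r

/-- singular elements of independent primes -/
def singSum : List (ℕ × ℕ × ℕ) → ℕ
  | [] => 0
  | x :: r => x.2.1 * (x.1 - 1) * x.2.2 + singSum r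

/-- too many singular elements -/
def tooMany (l : List (ℕ × ℕ × ℕ)) : Bool :=
  l.sublists.any fun S => Nat.ble ord (singSum S) && indep S

/-- the two possibilities -/
def survivor : List (ℕ × ℕ × ℕ) → Bool
  | [(3, 2926, 10), (5, 2926, 6), (7, 4180, 1), (11, 1596, c), (19, 1540, 1)] =>
    Nat.beq c 1 || Nat.beq c 2
  | _ => false

/-- the leaves of the search -/
def leafOK (l : List (ℕ × ℕ × ℕ)) : Bool :=
  survivor l || (!(l.all fun x => invOK (centOrd l) x) || tooMany l)

/-- the search -/
def go : List ℕ → List (ℕ × ℕ × ℕ) → Bool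
  | [], acc => leafOK acc
  | p :: ps, acc => (singOpts ord p).all fun o =>
      !(acc.all fun y => nestOK (p, o) y && nestOK y (p, o)) || go ps ((p, o) :: acc)

theorem go_ok : go [19, 11, 7, 5, 3] [] = true := by decide +kernel

end CfsgLib.Order175560
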