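import Cfsg.Agent.Lib.Transfer.Focal
import Cfsg.Agent.Lib.Transfer.AbelianSylow
import Cfsg.Agent.Lib.Case.Eight.Aut
import Cfsg.Agent.Lib.Invol.GlaubermanZStar
import Cfsg.Agent.Lib.GL23.Local

/-!
Simple groups with Sylow 2-subgroups of order eight have one class of involutions and contain four-groups.
-/

set_option autoImplicit false
set_option linter.style.haveILetI false

namespace CfsgLib.Order175560

open Subgroup

universe u

variable {G : Type u} [Group G] [Finite G] [IsSimpleGroup G]

omit [Finite G] in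
theorem commutator_eq_top_of_not_comm (hG : ¬ IsMulCommutative G) : commutator G = ⊤ :=
  (inferInstance : (commutator G).Normal).eq_bot_or_eq_top.resolve_left fun h =>
    hG ⟨⟨fun a b => commutatorElement_eq_one_iff_mul_comm.1 (Subgroup.mem_bot.1
      (h ▸ Subgroup.commutator_mem_commutator (Subgroup.mem_top a) (Subgroup.mem_top b)))⟩⟩

/-- Two commuting involutions. -/
theorem exists_commuting_involutions (hG : ¬ IsMulCommutative G) (he : 2 ∣ Nat.card G) :
    ∃ a b : G, orderOf a = 2 ∧ orderOf b = 2 ∧ a ≠ b ∧ a * b = b * a := by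
  classical
  by_contra hcon
  push Not at hcon
  have hno : ∀ E : Subgroup G, ¬ IsKleinFour E := by
    intro E hE
    haveI := hE
    have hc : Nat.card E = 4 := IsKleinFour.card_four
    cases nonempty_fintype G
    obtain ⟨x, hx⟩ : ∃ x : E, x ≠ 1 := by
      by_contra h
      push Not at h
      haveI : Subsingleton E := ⟨fun a b => (h a).trans (h b).symm⟩
      rw [Nat.card_of_subsingleton (1 : E)] at hc
      omega
    obtain ⟨y, hy, hyx⟩ : ∃ y : E, y ≠ 1 ∧ y ≠ x := by
      by_contra h
      push Not at h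
      let f : E → Bool := fun a => decide (a = 1)
      have hf : Function.Injective f := by
        intro a b e
        simp only [f, decide_eq_decide] at e
        by_cases ha : a = 1
        · rw [ha, e.1 ha]
        · rw [h a ha, h b fun hb => ha (e.2 hb)]
      have := Nat.card_le_card_of_injective f hf
      rw [hc, Nat.card_eq_fintype_card, Fintype.card_bool] at this
      omega
    have hord : ∀ z : E, z ≠ 1 → orderOf (z : G) = 2 := fun z hz => by
      rw [Subgroup.orderOf_coe]
      exact orderOf_eq_prime (by rw [pow_two]; exact IsKleinFour.mul_self z) hz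
    refine hcon x y (hord x hx) (hord y hy) (fun e => hyx (Subtype.ext e.symm)) ?_
    refine congrArg Subtype.val (?_ : x * y = y * x)
    have hinv : ∀ z : E, z⁻¹ = z := fun z => inv_eq_of_mul_eq_one_right (IsKleinFour.mul_self z)
    calc x * y = (x * y)⁻¹ := (hinv _).symm
      _ = y * x := by rw [mul_inv_rev, hinv, hinv]
  obtain ⟨z, hz, N, hN, hNo, hNc⟩ := CfsgLib.Invol.exists_central_mod_core_of
    CfsgLib.Invol.principalBlockCoreConstant CfsgLib.Invol.brauerSuzukiCenter
    (even_iff_two_dvd.2 he) hno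
  have hNbot : N = ⊥ := (hN.eq_bot_or_eq_top).resolve_right fun h => by
    rw [h, Subgroup.card_top] at hNo
    exact Nat.not_even_iff_odd.2 hNo (even_iff_two_dvd.2 he)
  have hzc : z ∈ Subgroup.center G := Subgroup.mem_center_iff.2 fun g => by
    have h := Subgroup.mem_bot.1 (hNbot ▸ hNc g)
    rw [mul_inv_eq_one, mul_inv_eq_iff_eq_mul] at h
    exact h.symm
  have htop : Subgroup.center G = ⊤ := (Subgroup.Normal.eq_bot_or_eq_top
    (inferInstance : (Subgroup.center G).Normal)).resolve_left fun h => by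
      rw [h, Subgroup.mem_bot] at hzc
      rw [hzc, orderOf_one] at hz
      exact absurd hz (by norm_num)
  exact hG ⟨⟨fun a b => (Subgroup.mem_center_iff.1 (htop ▸ Subgroup.mem_top b) a)⟩⟩

/-- One class of involutions. -/
theorem isConj_involutions (hG : ¬ IsMulCommutative G) (S : Sylow 2 G)
    (h8 : Nat.card (S : Subgroup G) = 8) {u v : G} (hu : orderOf u = 2) (hv : orderOf v = 2) :
    IsConj u v := by
  classical
  haveI : Fact (Nat.Prime 2) := ⟨Nat.prime_two⟩
  have hperf := commutator_eq_top_of_not_comm hG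
  suffices key : ∃ z : G, ∀ w : G, orderOf w = 2 → IsConj w z by
    obtain ⟨z, hz⟩ := key
    exact (hz u hu).trans (hz v hv).symm
  have hmove : ∀ w : G, orderOf w = 2 → ∃ g : G, g * w * g⁻¹ ∈ (S : Subgroup G) := by
    intro w hw
    obtain ⟨T, hT⟩ := (IsPGroup.of_card (p := 2) (n := 1) (G := zpowers w)
      (by rw [Nat.card_zpowers, hw, pow_one])).exists_le_sylow
    obtain ⟨g, hg⟩ := MulAction.exists_smul_eq G T S
    refine ⟨g, ?_⟩
    rw [← hg, Sylow.coe_subgroup_smul, Subgroup.mem_pointwise_smul_iff_inv_smul_mem,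
      ← map_inv, MulAut.smul_def, MulAut.conj_apply]
    convert hT (mem_zpowers w) using 1
    group
  by_cases h4 : ∀ x : (S : Subgroup G), x ^ 2 = 1
  · -- elementary abelian
    have hcomm : ∀ a b : (S : Subgroup G), a * b = b * a := fun a b => by
      have ha : a⁻¹ = a := inv_eq_of_mul_eq_one_right (by rw [← pow_two]; exact h4 a)
      have hb : b⁻¹ = b := inv_eq_of_mul_eq_one_right (by rw [← pow_two]; exact h4 b)
      have hab : (a * b)⁻¹ = a * b := inv_eq_of_mul_eq_one_right (by rw [← pow_two]; exact h4 _)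
      rw [mul_inv_rev, ha, hb] at hab
      exact hab.symm
    have hE : CfsgLib.Case.Eight.IsEight (S : Subgroup G) := ⟨h8, h4, hcomm⟩
    have hS : IsMulCommutative (S : Subgroup G) := ⟨⟨hcomm⟩⟩
    set R := (S : Subgroup G).normalizerMonoidHom.range with hR
    have hRodd : ¬ 2 ∣ Nat.card R := by
      intro h2
      have hd : Nat.card R ∣ (S : Subgroup G).index := by
        rw [hR, ← Subgroup.index_ker, Subgroup.normalizerMonoidHom_ker, ← Subgroup.relIndex]
        exact (Subgroup.relIndex_dvd_of_le_left _ (S : Subgroup G).le_centralizer).trans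
          (Subgroup.relIndex_dvd_index_of_le Subgroup.le_normalizer)
      exact S.not_dvd_index (h2.trans hd)
    have h21 := CfsgLib.Case.Eight.card_dvd_21 hE R hRodd
    have hfix : ∀ x : (S : Subgroup G), (∀ σ ∈ R, σ x = x) → x = 1 := by
      intro x hx
      refine Subtype.ext (CfsgLib.Transfer.abelian_sylow_centralPart_inf_commutator S hS x.2 ?_
        (hperf ▸ mem_top _))
      refine mem_centralizer_iff.2 fun n hn => ?_
      have h1 : ((((S : Subgroup G).normalizerMonoidHom ⟨n, hn⟩) x : (S : Subgroup G)) : G) = x :=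
        congrArg Subtype.val (hx _ ⟨⟨n, hn⟩, rfl⟩)
      have h2 : n * (x : G) * n⁻¹ = x := h1
      exact mul_inv_eq_iff_eq_mul.1 h2
    by_cases h7 : 7 ∣ Nat.card R
    · haveI : Fact (Nat.Prime 7) := ⟨by norm_num⟩
      obtain ⟨σ, hσ⟩ := exists_prime_orderOf_dvd_card' (G := R) 7 h7
      have hσ7 : (σ : MulAut (S : Subgroup G)) ^ 7 = 1 := by
        rw [← hσ, ← Subgroup.orderOf_coe]; exact pow_orderOf_eq_one _
      have hσ1 : (σ : MulAut (S : Subgroup G)) ≠ 1 := fun h => by
        rw [← Subgroup.orderOf_coe, h, orderOf_one] at hσ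
        omega
      obtain ⟨x, hx⟩ := exists_prime_orderOf_dvd_card' (G := (S : Subgroup G)) 2 (by rw [h8]; norm_num)
      have hx1 : x ≠ 1 := fun h => by rw [h, orderOf_one] at hx; omega
      refine ⟨x, fun w hw => ?_⟩
      obtain ⟨g, hg⟩ := hmove w hw
      have hy1 : (⟨g * w * g⁻¹, hg⟩ : (S : Subgroup G)) ≠ 1 := fun h => by
        have := conj_eq_one_iff.1 (congrArg Subtype.val h)
        rw [this, orderOf_one] at hw
        omega
      obtain ⟨k, hk⟩ := CfsgLib.Case.Eight.exists_pow_eq hE hσ7 hσ1 hx1 hy1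
      obtain ⟨n, hn⟩ : (σ : MulAut (S : Subgroup G)) ^ k ∈ R := pow_mem σ.2 k
      rw [← hn] at hk
      have h1 : (n : G) * (x : G) * (n : G)⁻¹ = g * w * g⁻¹ := congrArg Subtype.val hk
      refine (isConj_iff.2 ⟨g, rfl⟩ : IsConj w (g * w * g⁻¹)).trans ?_
      rw [← h1]
      exact (isConj_iff.2 ⟨(n : G), rfl⟩).symm
    · exfalso
      have h3 : Nat.card R ∣ 3 := by
        have hco : Nat.Coprime (Nat.card R) 7 :=
          ((Nat.Prime.coprime_iff_not_dvd (by norm_num)).2 h7).symm
        exact hco.dvd_of_dvd_mul_left (by simpa using h21)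
      have hpow : ∀ σ ∈ R, σ ^ 3 = 1 := fun σ hσ => by
        obtain ⟨k, hk⟩ := (Subgroup.orderOf_dvd_natCard R hσ).trans h3
        rw [hk, pow_mul, pow_orderOf_eq_one, one_pow]
      by_cases hσ : ∃ σ ∈ R, σ ≠ 1
      · obtain ⟨σ, hσR, hσ1⟩ := hσ
        have h2 := CfsgLib.Case.Eight.fixed_three hE (hpow σ hσR) hσ1
        have hgen : zpowers σ = R := by
          refine eq_of_le_of_card_ge (zpowers_le.2 hσR) (Nat.le_of_dvd Nat.card_pos ?_)
          rw [Nat.card_zpowers, orderOf_eq_prime (p := 3) (hp := ⟨Nat.prime_three⟩) (hpow σ hσR) hσ1]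
          exact h3
        have hbot : CfsgLib.Case.Eight.fixedBy σ = ⊥ := by
          rw [eq_bot_iff]
          intro x hx
          rw [mem_bot]
          refine hfix x fun τ hτ => ?_
          rw [← hgen] at hτ
          obtain ⟨i, rfl⟩ := mem_zpowers_iff.1 hτ
          have hx' : σ x = x := CfsgLib.Case.Eight.mem_fixedBy.1 hx
          have : ∀ m : ℕ, (σ ^ m) x = x := fun m => by
            induction m with
            | zero => rfl
            | succ m ih => rw [pow_succ, MulAut.mul_apply, hx', ih]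
          obtain ⟨m, hm⟩ : ∃ m : ℕ, σ ^ i = σ ^ m := by
            obtain ⟨m, hm⟩ := (isOfFinOrder_of_finite σ).mem_powers_iff_mem_zpowers.2
              (mem_zpowers_iff.2 ⟨i, rfl⟩)
            exact ⟨m, hm.symm⟩
          rw [hm, this]
        rw [hbot, Subgroup.card_bot] at h2
        omega
      · push Not at hσ
        obtain ⟨x, hx⟩ := exists_prime_orderOf_dvd_card' (G := (S : Subgroup G)) 2 (by rw [h8]; norm_num)
        rw [hfix x fun σ h => by rw [hσ σ h]; rfl, orderOf_one] at hx
        omega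
  · -- a cyclic subgroup of index two
    push Not at h4
    obtain ⟨x, hx⟩ := h4
    obtain ⟨a, ha⟩ : ∃ a : (S : Subgroup G), orderOf a = 4 := by
      have hd : orderOf x ∣ 2 ^ 3 := by rw [show (2 : ℕ) ^ 3 = 8 by norm_num, ← h8]; exact orderOf_dvd_natCard x
      obtain ⟨k, hk, hkx⟩ := (Nat.dvd_prime_pow Nat.prime_two).1 hd
      interval_cases k
      · exact absurd (by rw [orderOf_eq_one_iff.1 hkx, one_pow]) hx
      · exact absurd (orderOf_dvd_iff_pow_eq_one.1 (by rw [hkx]; norm_num)) hx
      · exact ⟨x, by rw [hkx]; norm_num⟩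
      · exact ⟨x ^ 2, by rw [orderOf_pow, hkx]; norm_num⟩
    have hM : (zpowers a).index = 2 := by
      have h := (zpowers a).card_mul_index
      rw [Nat.card_zpowers, ha, h8] at h
      omega
    refine ⟨((a ^ 2 : (S : Subgroup G)) : G), fun w hw => ?_⟩
    obtain ⟨g, hg, hgM⟩ := CfsgLib.Transfer.exists_conj_mem_of_pResidual_eq_top S
      (CfsgLib.GL23.pResidual_eq_top_of_perfect hperf) (zpowers a) hM w (hw ▸ pow_orderOf_eq_one w)
    refine isConj_iff.2 ⟨g, ?_⟩
    show g * w * g⁻¹ = _
    obtain ⟨i, hi, hai⟩ : ∃ i < 4, a ^ i = (⟨g * w * g⁻¹, hg⟩ : (S : Subgroup G)) := by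
      obtain ⟨m, hm⟩ := (isOfFinOrder_of_finite a).mem_powers_iff_mem_zpowers.2 hgM
      exact ⟨m % 4, Nat.mod_lt _ (by norm_num), by
        change a ^ m = _ at hm
        rw [← hm, ← ha, pow_mod_orderOf]⟩
    have hwo : orderOf (a ^ i) = 2 := by
      rw [hai, ← Subgroup.orderOf_coe]
      show orderOf (g * w * g⁻¹) = 2
      rw [← MulAut.conj_apply, MulEquiv.orderOf_eq, hw]
    have hi2 : i = 2 := by
      rw [orderOf_pow, ha] at hwo
      interval_cases i <;> simp_all
    rw [hi2] at hai
    exact (congrArg Subtype.val hai).symm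

end CfsgLib.Order175560
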