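import Cfsg.Agent.Lib.Order175560.Check
import Cfsg.Agent.Lib.Order175560.Count
import Cfsg.Agent.Lib.Order175560.Invol
import Cfsg.Agent.Lib.Order175560.Centralizer

/-!
Simple groups of order 175560: the centraliser of an involution.
-/

set_option autoImplicit false
set_option linter.style.haveILetI false

namespace CfsgLib.Order175560

open Subgroup CfsgLib.SmallOrder
open scoped Pointwise

universe u

theorem prime_facts : ∀ p ∈ ([19, 11, 7, 5, 3] : List ℕ),
    p ∣ ord ∧ ¬ p ∣ ord / p ∧ 1 < ord / p ∧ ¬ p ^ 2 ∣ ord ∧ p ≠ 2 ∧ ¬ p ^ 2 ∣ 2 * ord := by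
  decide +kernel

theorem prime_of_mem {p : ℕ} (h : p ∈ ([19, 11, 7, 5, 3] : List ℕ)) : p.Prime := by
  simp only [List.mem_cons, List.not_mem_nil, or_false] at h
  rcases h with rfl | rfl | rfl | rfl | rfl <;> norm_num

variable {G : Type u} [Group G] [Finite G]

/-- the data of a prime -/
noncomputable def dat (G : Type u) [Group G] (p : ℕ) : ℕ × ℕ × ℕ :=
  (p, Nat.card (Sylow p G), cPart p G)

theorem not_comm [IsSimpleGroup G] (hN : Nat.card G = ord) : ¬ IsMulCommutative G :=
  not_comm_of_not_prime (by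
    rw [hN, show ord = 8 * 21945 from rfl]; exact Nat.not_prime_mul (by norm_num) (by norm_num))

theorem exists_sylow_coe (hN : Nat.card G = ord) {p : ℕ} [Fact p.Prime]
    (hp : p ∈ ([19, 11, 7, 5, 3] : List ℕ)) {K : Subgroup G} (hK : Nat.card K = p) :
    ∃ T : Sylow p G, (T : Subgroup G) = K := by
  obtain ⟨hd, -, -, h2, -⟩ := prime_facts p hp
  obtain ⟨T, hT⟩ := (IsPGroup.of_card (n := 1) (by rw [hK, pow_one])).exists_le_sylow
  exact ⟨T, (eq_of_le_of_card_ge hT (by
    rw [hK, (card_centralizer_sylow (hN ▸ hd) (hN ▸ h2) T).1])).symm⟩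

/-- Orders of the centraliser and of the normaliser of a subgroup of prime order. -/
theorem local_orders (hN : Nat.card G = ord) {p : ℕ} [Fact p.Prime]
    (hp : p ∈ ([19, 11, 7, 5, 3] : List ℕ)) {K : Subgroup G} (hK : Nat.card K = p) :
    Nat.card ↥(centralizer (K : Set G)) = p * cPart p G ∧
      Nat.card ↥(normalizer (K : Set G)) = ord / Nat.card (Sylow p G) := by
  obtain ⟨hd, -, -, h2, -⟩ := prime_facts p hp
  obtain ⟨T, rfl⟩ := exists_sylow_coe hN hp hK
  refine ⟨(card_centralizer_sylow (hN ▸ hd) (hN ▸ h2) T).2.1, ?_⟩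
  rw [← hN, ← card_normalizer_mul T, Nat.mul_div_cancel _ Nat.card_pos]

theorem exists_subgroup (hN : Nat.card G = ord) {p : ℕ} [Fact p.Prime]
    (hp : p ∈ ([19, 11, 7, 5, 3] : List ℕ)) : ∃ K : Subgroup G, Nat.card K = p := by
  obtain ⟨hd, -, -, h2, -⟩ := prime_facts p hp
  obtain ⟨T⟩ := (inferInstance : Nonempty (Sylow p G))
  exact ⟨T, (card_centralizer_sylow (hN ▸ hd) (hN ▸ h2) T).1⟩

/-- The subgroups of order `q` in the normaliser and in the centraliser of one of order `p`. -/
theorem numSub_normalizer (hN : Nat.card G = ord) {p q : ℕ} [Fact p.Prime] [Fact q.Prime]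
    (hp : p ∈ ([19, 11, 7, 5, 3] : List ℕ)) (hq : q ∈ ([19, 11, 7, 5, 3] : List ℕ)) (hpq : p ≠ q)
    (hc : q ∣ cPart p G) {K : Subgroup G} (hK : Nat.card K = p) :
    ∃ (Q : Subgroup G) (k : ℕ), Nat.card Q = q ∧ Q ≤ centralizer (K : Set G) ∧
      k ∣ cPart p G / q ∧ k % q = 1 ∧
      k * Nat.card ↥(normalizer (K : Set G) ⊓ normalizer (Q : Set G)) =
        Nat.card ↥(normalizer (K : Set G)) := by
  obtain ⟨-, -, -, hq2, -⟩ := prime_facts q hq
  set C := centralizer (K : Set G) with hC
  have hCN : C ≤ normalizer (K : Set G) := centralizer_le_normalizer _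
  have hCc : Nat.card C = p * cPart p G := (local_orders hN hp hK).1
  obtain ⟨⟨x, hx⟩, hxo⟩ := exists_prime_orderOf_dvd_card' (G := C) q (hCc ▸ Dvd.dvd.mul_left hc p)
  rw [Subgroup.orderOf_mk] at hxo
  have hQ : Nat.card (zpowers x) = q := by rw [Nat.card_zpowers, hxo]
  have hQC : zpowers x ≤ C := zpowers_le.2 hx
  have h2C : ¬ q ^ 2 ∣ Nat.card C := fun h => hq2 (hN ▸ h.trans (card_subgroup_dvd_card C))
  have h2M : ¬ q ^ 2 ∣ Nat.card ↥(normalizer (K : Set G)) := fun h =>
    hq2 (hN ▸ h.trans (card_subgroup_dvd_card _))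
  obtain ⟨hk1, hkC⟩ := numSub_facts hQC hQ h2C
  refine ⟨zpowers x, numSub q C, hQ, hQC, ?_, hk1, ?_⟩
  · -- both subgroups normalise the second
    have hKC : K ≤ C := by
      haveI : IsCyclic K := isCyclic_of_prime_card hK
      intro a ha
      refine mem_centralizer_iff.2 fun b hb => ?_
      exact congrArg Subtype.val ((IsCyclic.commGroup (α := K)).mul_comm ⟨b, hb⟩ ⟨a, ha⟩)
    have hKN : K ≤ normalizer (zpowers x : Set G) := by
      refine le_trans ?_ (centralizer_le_normalizer _)
      intro a ha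
      refine mem_centralizer_iff.2 fun b hb => ?_
      exact ((mem_centralizer_iff.1 (hQC hb)) a ha).symm
    have hd : p * q ∣ Nat.card ↥(C ⊓ normalizer (zpowers x : Set G)) :=
      Nat.Coprime.mul_dvd_of_dvd_of_dvd
        ((Nat.coprime_primes (Fact.out : p.Prime) (Fact.out : q.Prime)).2 hpq)
        (hK ▸ card_dvd_of_le (le_inf hKC hKN)) (hQ ▸ card_dvd_of_le (le_inf hQC le_normalizer))
    obtain ⟨r, hr⟩ := hd
    obtain ⟨s, hs⟩ := hc
    rw [hr, hCc, hs] at hkC
    rw [hs, Nat.mul_div_cancel_left _ (Fact.out : q.Prime).pos]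
    have h1 : p * q * (numSub q C * r) = p * q * s := by
      rw [mul_assoc p q s, ← hkC]; ring
    exact ⟨r, (Nat.eq_of_mul_eq_mul_left (Nat.mul_pos (Fact.out : p.Prime).pos
      (Fact.out : q.Prime).pos) h1).symm⟩
  · have heq : numSub q C = numSub q (normalizer (K : Set G)) := by
      refine Nat.card_congr (Equiv.subtypeEquivRight fun L =>
        ⟨fun h => ⟨h.1.trans hCN, h.2⟩, fun h => ⟨fun y hy => ?_, h.2⟩⟩)
      by_contra hyC
      set f := K.normalizerMonoidHom
      have hfy : f ⟨y, h.1 hy⟩ ≠ 1 := fun h1 => hyC (by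
        have h3 : (⟨y, h.1 hy⟩ : normalizer (K : Set G)) ∈ f.ker := h1
        rw [Subgroup.normalizerMonoidHom_ker] at h3
        exact h3)
      have hyo : orderOf (f ⟨y, h.1 hy⟩) = q := by
        have hd : orderOf (f ⟨y, h.1 hy⟩) ∣ q := by
          refine (orderOf_map_dvd f _).trans ?_
          rw [Subgroup.orderOf_mk]
          exact (orderOf_dvd_natCard L hy).trans (dvd_of_eq h.2)
        exact ((Nat.dvd_prime (Fact.out : q.Prime)).1 hd).resolve_left fun h1 =>
          hfy (orderOf_eq_one_iff.1 h1)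
      have hq' : q ∣ f.ker.index := by
        rw [Subgroup.index_ker, ← hyo]
        exact Subgroup.orderOf_dvd_natCard _ ⟨_, rfl⟩
      have hker : Nat.card f.ker = Nat.card C := by
        rw [Subgroup.normalizerMonoidHom_ker, Nat.card_congr (subgroupOfEquivOfLe hCN).toEquiv]
      refine h2M ?_
      rw [pow_two, ← f.ker.card_mul_index, hker]
      exact Nat.mul_dvd_mul (hQ ▸ card_dvd_of_le hQC) hq'
    rw [heq]
    exact (numSub_facts (hQC.trans hCN) hQ h2M).2

theorem nestOK_dat (hN : Nat.card G = ord) {p q : ℕ} (hp : p ∈ ([19, 11, 7, 5, 3] : List ℕ))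
    (hq : q ∈ ([19, 11, 7, 5, 3] : List ℕ)) : nestOK (dat G p) (dat G q) = true := by
  by_cases hpq : p = q
  · subst hpq; simp [nestOK, dat]
  by_cases hc : q ∣ cPart p G
  · haveI := Fact.mk (prime_of_mem hp)
    haveI := Fact.mk (prime_of_mem hq)
    obtain ⟨hpd, -, -, hp2, -⟩ := prime_facts p hp
    obtain ⟨hqd, -, -, hq2, -⟩ := prime_facts q hq
    have hsym : p ∣ cPart q G :=
      dvd_cPart_symm (hN ▸ hpd) (hN ▸ hp2) (hN ▸ hqd) (hN ▸ hq2) (Ne.symm hpq) hc
    obtain ⟨K, hK⟩ := exists_subgroup hN hp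
    obtain ⟨Q, k, hQ, -, hk, hk1, hkM⟩ := numSub_normalizer hN hp hq hpq hc hK
    have hc0 : 0 < cPart p G := by
      have h := (local_orders hN hp hK).1
      rcases Nat.eq_zero_or_pos (cPart p G) with h0 | h0
      · rw [h0, mul_zero] at h
        exact absurd h Nat.card_pos.ne'
      · exact h0
    have hle : k ≤ cPart p G / q :=
      Nat.le_of_dvd (Nat.div_pos (Nat.le_of_dvd hc0 hc) (prime_of_mem hq).pos) hk
    have hd : ord / Nat.card (Sylow p G) / k ∣ ord / Nat.card (Sylow q G) := by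
      rw [← (local_orders hN hp hK).2, ← (local_orders hN hq hQ).2, ← hkM,
        Nat.mul_div_cancel_left _ (Nat.pos_of_ne_zero fun h => by simp [h] at hk1 : 0 < k)]
      exact card_dvd_of_le inf_le_right
    simp only [nestOK, dat, Bool.or_eq_true, Bool.and_eq_true, Nat.beq_eq, List.any_eq_true,
      List.mem_range]
    exact Or.inr (Or.inr ⟨Nat.mod_eq_zero_of_dvd hsym, k, Nat.lt_succ_of_le hle,
      Nat.mod_eq_zero_of_dvd hk, hk1, Nat.mod_eq_zero_of_dvd hd⟩)
  · simp only [nestOK, dat, Bool.or_eq_true, Bool.not_eq_true', Bool.eq_false_iff, ne_eq,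
      Nat.beq_eq]
    exact Or.inr (Or.inl fun h => hc (Nat.dvd_of_mod_eq_zero h))

omit [Finite G] in
theorem centralizer_map_conj (g t : G) :
    (centralizer ({t} : Set G)).map (MulAut.conj g).toMonoidHom =
      centralizer ({g * t * g⁻¹} : Set G) := by
  ext x
  simp only [mem_map, mem_centralizer_singleton_iff, MulEquiv.coe_toMonoidHom, MulAut.conj_apply]
  constructor
  · rintro ⟨y, hy, rfl⟩
    calc g * y * g⁻¹ * (g * t * g⁻¹) = g * (y * t) * g⁻¹ := by group
      _ = g * (t * y) * g⁻¹ := by rw [hy]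
      _ = _ := by group
  · intro hx
    refine ⟨g⁻¹ * x * g, ?_, by group⟩
    calc g⁻¹ * x * g * t = g⁻¹ * (x * (g * t * g⁻¹)) * g := by group
      _ = g⁻¹ * (g * t * g⁻¹ * x) * g := by rw [hx]
      _ = _ := by group

omit [Finite G] in
theorem centralizer_subgroup_map_conj (g : G) (K : Subgroup G) :
    (centralizer (K : Set G)).map (MulAut.conj g).toMonoidHom =
      centralizer ((K.map (MulAut.conj g).toMonoidHom : Subgroup G) : Set G) := by
  ext x
  simp only [mem_map, mem_centralizer_iff, coe_map, Set.mem_image, SetLike.mem_coe,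
    MulEquiv.coe_toMonoidHom, MulAut.conj_apply, forall_exists_index, and_imp,
    forall_apply_eq_imp_iff₂]
  constructor
  · rintro ⟨y, hy, rfl⟩ a ha
    calc g * a * g⁻¹ * (g * y * g⁻¹) = g * (a * y) * g⁻¹ := by group
      _ = g * (y * a) * g⁻¹ := by rw [hy a ha]
      _ = _ := by group
  · intro hx
    refine ⟨g⁻¹ * x * g, fun a ha => ?_, by group⟩
    calc a * (g⁻¹ * x * g) = g⁻¹ * (g * a * g⁻¹ * x) * g := by group
      _ = g⁻¹ * (x * (g * a * g⁻¹)) * g := by rw [hx a ha]
      _ = _ := by group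

omit [Finite G] in
/-- The involutions `t` fix the order of their centraliser. -/
theorem card_involutions_mul (hconj : ∀ u v : G, orderOf u = 2 → orderOf v = 2 → IsConj u v)
    {t : G} (ht : orderOf t = 2) :
    Nat.card ↥(centralizer ({t} : Set G)) * Nat.card {u : G // orderOf u = 2} = Nat.card G := by
  rw [← card_mul_index (centralizer ({t} : Set G)), ← CfsgLib.Invol.card_isConj_eq_index]
  congr 1
  exact Nat.card_congr (Equiv.subtypeEquivRight fun v =>
    ⟨fun h => hconj t v ht h, fun h => CfsgLib.Invol.orderOf_eq_two_of_isConj ht h⟩)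

theorem dvd_card_centralizer_iff (hN : Nat.card G = ord)
    (hconj : ∀ u v : G, orderOf u = 2 → orderOf v = 2 → IsConj u v) {t : G} (ht : orderOf t = 2)
    {p : ℕ} (hp : p ∈ ([19, 11, 7, 5, 3] : List ℕ)) :
    p ∣ Nat.card ↥(centralizer ({t} : Set G)) ↔ 2 ∣ cPart p G := by
  haveI := Fact.mk (prime_of_mem hp)
  haveI : Fact (Nat.Prime 2) := ⟨Nat.prime_two⟩
  constructor
  · intro h
    obtain ⟨⟨x, hx⟩, hxo⟩ := exists_prime_orderOf_dvd_card' (G := centralizer ({t} : Set G)) p h
    rw [Subgroup.orderOf_mk] at hxo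
    have hK : Nat.card (zpowers x) = p := by rw [Nat.card_zpowers, hxo]
    have htK : t ∈ centralizer (zpowers x : Set G) := le_centralizer_singleton_iff.1 (zpowers_le.2 hx)
    have h2 := orderOf_dvd_natCard _ htK
    rw [ht, (local_orders hN hp hK).1] at h2
    exact (Nat.prime_two.dvd_mul.1 h2).resolve_left fun h =>
      (prime_facts p hp).2.2.2.2.1 ((Nat.prime_dvd_prime_iff_eq Nat.prime_two Fact.out).1 h).symm
  · intro h
    obtain ⟨K, hK⟩ := exists_subgroup hN hp
    obtain ⟨⟨u, hu⟩, huo⟩ := exists_prime_orderOf_dvd_card' (G := centralizer (K : Set G)) 2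
      ((local_orders hN hp hK).1 ▸ Dvd.dvd.mul_left h p)
    rw [Subgroup.orderOf_mk] at huo
    have h1 := card_dvd_of_le (le_centralizer_singleton_iff.2 hu)
    rw [hK] at h1
    have e : Nat.card ↥(centralizer ({u} : Set G)) = Nat.card ↥(centralizer ({t} : Set G)) := by
      obtain ⟨g, rfl⟩ := isConj_iff.1 (hconj t u ht huo)
      rw [← centralizer_map_conj g t, card_map_of_injective (MulAut.conj g).injective]
    rwa [← e]

theorem invChoice_dat (hN : Nat.card G = ord)
    (hconj : ∀ u v : G, orderOf u = 2 → orderOf v = 2 → IsConj u v) {t : G} (ht : orderOf t = 2)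
    {p : ℕ} (hp : p ∈ ([19, 11, 7, 5, 3] : List ℕ)) (hc : 2 ∣ cPart p G)
    {K : Subgroup G} (hK : Nat.card K = p) :
    invChoice (Nat.card ↥(centralizer ({t} : Set G))) (dat G p)
      (numSub p (centralizer ({t} : Set G))) (numInv (centralizer (K : Set G))) = true := by
  haveI := Fact.mk (prime_of_mem hp)
  haveI : Fact (Nat.Prime 2) := ⟨Nat.prime_two⟩
  obtain ⟨hpd, -, -, hp2, hp', -⟩ := prime_facts p hp
  set C := centralizer ({t} : Set G) with hC
  have hpC : p ∣ Nat.card C := (dvd_card_centralizer_iff hN hconj ht hp).2 hc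
  obtain ⟨⟨x, hx⟩, hxo⟩ := exists_prime_orderOf_dvd_card' (G := C) p hpC
  rw [Subgroup.orderOf_mk] at hxo
  have hL : Nat.card (zpowers x) = p := by rw [Nat.card_zpowers, hxo]
  have hLC : zpowers x ≤ C := zpowers_le.2 hx
  obtain ⟨hm1, hm⟩ := numSub_facts hLC hL fun h => hp2 (hN ▸ h.trans (card_subgroup_dvd_card C))
  have hlo := local_orders hN hp hK
  have hodd : numInv (centralizer (K : Set G)) % 2 = 1 :=
    numInv_odd (hlo.1 ▸ Dvd.dvd.mul_left hc p)
  have hlt : numInv (centralizer (K : Set G)) < cPart p G := numInv_lt hK hp' hlo.1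
  have heq : Nat.card {u : G // orderOf u = 2} * numSub p C =
      numSub p (⊤ : Subgroup G) * numInv (centralizer (K : Set G)) := by
    refine card_pairs (fun u hu => ?_) fun L' hL' => ?_
    · obtain ⟨g, rfl⟩ := isConj_iff.1 (hconj t u ht hu)
      rw [← centralizer_map_conj g t, numSub_map_equiv]
    · obtain ⟨T, rfl⟩ := exists_sylow_coe hN hp hK
      obtain ⟨T', rfl⟩ := exists_sylow_coe hN hp hL'
      obtain ⟨g, rfl⟩ := MulAction.exists_smul_eq G T T'
      rw [Sylow.coe_subgroup_smul, show MulAut.conj g • (T : Subgroup G) =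
        (T : Subgroup G).map (MulAut.conj g).toMonoidHom from rfl,
        ← centralizer_subgroup_map_conj, numInv_map_equiv]
  rw [numSub_top (hN ▸ hpd) (hN ▸ hp2)] at heq
  have hinv : ord / Nat.card C = Nat.card {u : G // orderOf u = 2} := by
    rw [← hN, ← card_involutions_mul hconj ht, Nat.mul_div_cancel_left _ Nat.card_pos]
  have hm' : numSub p C ∣ Nat.card C / p := by
    obtain ⟨r, hr⟩ := hL ▸ card_dvd_of_le (le_inf hLC (le_normalizer (H := zpowers x)))
    rw [hr] at hm
    refine ⟨r, ?_⟩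
    rw [← hm, mul_left_comm, Nat.mul_div_cancel_left _ (Fact.out : p.Prime).pos]
  have hd : Nat.card C / numSub p C ∣ ord / Nat.card (Sylow p G) := by
    rw [← (local_orders hN hp hL).2, ← hm,
      Nat.mul_div_cancel_left _ (Nat.pos_of_ne_zero fun h => by simp [h] at hm1)]
    exact card_dvd_of_le inf_le_right
  simp only [invChoice, dat, Bool.and_eq_true, Nat.beq_eq, Nat.blt_eq]
  exact ⟨Nat.mod_eq_zero_of_dvd hm', hm1, Nat.mod_eq_zero_of_dvd hd, hinv ▸ heq, hodd, hlt⟩

theorem centOrd_congr : ∀ (ps : List ℕ) (f g : ℕ → ℕ × ℕ),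
    (∀ p ∈ ps, Nat.beq ((f p).2 % 2) 0 = Nat.beq ((g p).2 % 2) 0) →
    centOrd (ps.map fun p => (p, f p)) = centOrd (ps.map fun p => (p, g p)) := by
  intro ps
  induction ps with
  | nil => intros; rfl
  | cons p ps ih =>
    intro f g h
    simp only [List.map_cons, centOrd, h p List.mem_cons_self,
      ih f g fun q hq => h q (List.mem_cons_of_mem _ hq)]

theorem centOrd_spec' : ∀ d ∈ Nat.divisors 21945,
    centOrd (([3, 5, 7, 11, 19] : List ℕ).map fun p =>
      (p, (0, if 8 * d % p = 0 then 0 else 1))) = 8 * d := by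
  decide +kernel

theorem centOrd_spec {X : ℕ} (hX : X ∣ ord) (h8 : X % 8 = 0) :
    centOrd (([3, 5, 7, 11, 19] : List ℕ).map fun p =>
      (p, (0, if X % p = 0 then 0 else 1))) = X := by
  obtain ⟨d, rfl⟩ := Nat.dvd_of_mod_eq_zero h8
  refine centOrd_spec' d (Nat.mem_divisors.2 ⟨?_, by norm_num⟩)
  exact Nat.dvd_of_mul_dvd_mul_left (by norm_num) (show 8 * d ∣ 8 * 21945 from hX)

theorem card_centralizer_eq_centOrd (hN : Nat.card G = ord)
    (hconj : ∀ u v : G, orderOf u = 2 → orderOf v = 2 → IsConj u v) {t : G} (ht : orderOf t = 2) :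
    Nat.card ↥(centralizer ({t} : Set G)) = centOrd (([3, 5, 7, 11, 19] : List ℕ).map (dat G)) := by
  haveI : Fact (Nat.Prime 2) := ⟨Nat.prime_two⟩
  obtain ⟨S⟩ := (inferInstance : Nonempty (Sylow 2 G))
  have h8 : Nat.card (S : Subgroup G) = 8 := by
    simpa using card_sylow_eq (e := 3) (m := 21945) (by rw [hN]; rfl) (by norm_num) S
  haveI : Nontrivial (S : Subgroup G) := Finite.one_lt_card_iff_nontrivial.1 (by omega)
  haveI := S.2.center_nontrivial
  obtain ⟨k, hk, hk'⟩ := (S.2.to_subgroup (center (S : Subgroup G))).nontrivial_iff_card.1 inferInstance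
  obtain ⟨⟨⟨z, hzS⟩, hzc⟩, hzo⟩ := exists_prime_orderOf_dvd_card'
    (G := center (S : Subgroup G)) 2 (hk' ▸ dvd_pow_self 2 (by omega))
  rw [Subgroup.orderOf_mk, Subgroup.orderOf_mk] at hzo
  set X := Nat.card ↥(centralizer ({t} : Set G)) with hX
  have h8X : X % 8 = 0 := by
    obtain ⟨g, hg⟩ := isConj_iff.1 (hconj t z ht hzo)
    rw [hX, ← card_map_of_injective (f := (MulAut.conj g).toMonoidHom) (MulAut.conj g).injective,
      centralizer_map_conj, hg]
    refine Nat.mod_eq_zero_of_dvd (h8 ▸ card_dvd_of_le fun s hs => ?_)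
    exact mem_centralizer_singleton_iff.2 (congrArg Subtype.val (mem_center_iff.1 hzc ⟨s, hs⟩))
  rw [← centOrd_spec (hN ▸ card_subgroup_dvd_card _ : X ∣ ord) h8X]
  refine centOrd_congr _ (fun p => (0, if X % p = 0 then 0 else 1))
    (fun p => (Nat.card (Sylow p G), cPart p G)) fun p hp => ?_
  have hp' : p ∈ ([19, 11, 7, 5, 3] : List ℕ) := by
    simp only [List.mem_cons, List.not_mem_nil, or_false] at hp ⊢
    tauto
  have := dvd_card_centralizer_iff hN hconj ht hp'
  rw [← hX, Nat.dvd_iff_mod_eq_zero, Nat.dvd_iff_mod_eq_zero] at this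
  rw [Bool.eq_iff_iff, Nat.beq_eq, Nat.beq_eq]
  show (if X % p = 0 then 0 else 1) % 2 = 0 ↔ cPart p G % 2 = 0
  split <;> simp_all

theorem singSum_le (hN : Nat.card G = ord) : ∀ S : List ℕ, (∀ p ∈ S, p ∈ ([19, 11, 7, 5, 3] : List ℕ)) →
    S.Nodup → indep (S.map (dat G)) = true →
    singSum (S.map (dat G)) ≤ {g : G | ∃ p ∈ S, p ∣ orderOf g}.ncard := by
  intro S
  induction S with
  | nil => intro _ _ _; simp [singSum]
  | cons p S ih =>
    intro hS hnd hind
    rw [List.forall_mem_cons] at hS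
    rw [List.nodup_cons] at hnd
    simp only [List.map_cons, indep, Bool.and_eq_true, List.all_eq_true, Bool.not_eq_true',
      List.forall_mem_map] at hind
    haveI := Fact.mk (prime_of_mem hS.1)
    obtain ⟨hpd, -, -, hp2, -⟩ := prime_facts p hS.1
    have h1 := ih hS.2 hnd.2 hind.2
    have h2 := card_singular_ge (G := G) (p := p) (hN ▸ hpd) (hN ▸ hp2)
    have hdisj : Disjoint {g : G | p ∣ orderOf g} {g : G | ∃ q ∈ S, q ∣ orderOf g} := by
      rw [Set.disjoint_left]
      rintro g hg ⟨q, hq, hqg⟩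
      have hd := dvd_cPart_of_dvd_orderOf (G := G) (p := p) (hN ▸ hpd) (hN ▸ hp2)
        (prime_of_mem (hS.2 q hq)) (fun e => hnd.1 (e ▸ hq)) hg hqg
      have := hind.1 q hq
      simp only [dat] at this
      rw [Nat.mod_eq_zero_of_dvd hd] at this
      exact Bool.noConfusion this
    have he : {g : G | ∃ q ∈ p :: S, q ∣ orderOf g} =
        {g : G | p ∣ orderOf g} ∪ {g : G | ∃ q ∈ S, q ∣ orderOf g} := by
      ext g; simp
    rw [he, Set.ncard_union_eq hdisj]
    simp only [List.map_cons, singSum, dat] at h1 ⊢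
    omega

theorem not_tooMany (hN : Nat.card G = ord) (l : List ℕ)
    (hl : ∀ p ∈ l, p ∈ ([19, 11, 7, 5, 3] : List ℕ)) (hnd : l.Nodup) :
    tooMany (l.map (dat G)) = false := by
  rw [Bool.eq_false_iff]
  intro h
  simp only [tooMany, List.any_eq_true, List.mem_sublists, Bool.and_eq_true, Nat.ble_eq] at h
  obtain ⟨T, hT, hle, hind⟩ := h
  obtain ⟨S, hS, rfl⟩ := List.sublist_map_iff.1 hT
  have h1 := singSum_le hN S (fun p hp => hl p (hS.subset hp)) (hnd.sublist hS) hind
  have h2 : {g : G | ∃ p ∈ S, p ∣ orderOf g}.ncard < Nat.card G := by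
    rw [← Set.ncard_univ]
    refine Set.ncard_lt_ncard (Set.ssubset_univ_iff.2 fun e => ?_)
    obtain ⟨p, hp, hd⟩ := (e ▸ Set.mem_univ (1 : G) : (1 : G) ∈ {g : G | ∃ p ∈ S, p ∣ orderOf g})
    rw [orderOf_one] at hd
    exact (prime_of_mem (hl p (hS.subset hp))).ne_one (Nat.dvd_one.1 hd)
  omega

theorem leafOK_dat [IsSimpleGroup G] (hN : Nat.card G = ord) :
    leafOK (([3, 5, 7, 11, 19] : List ℕ).map (dat G)) = true := by
  have key : ∀ l done : List ℕ, (∀ p ∈ l ++ done, p ∈ ([19, 11, 7, 5, 3] : List ℕ)) →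
      go l (done.map (dat G)) = true → leafOK ((l.reverse ++ done).map (dat G)) = true := by
    intro l
    induction l with
    | nil => intro done _ h; simpa [go] using h
    | cons p l ih =>
      intro done hmem h
      have hp := hmem p (by simp)
      haveI := Fact.mk (prime_of_mem hp)
      obtain ⟨hpd, hm, hm1, -⟩ := prime_facts p hp
      simp only [go, List.all_eq_true, Bool.or_eq_true, Bool.not_eq_true'] at h
      have h' := h _ (mem_singOpts (not_comm hN) hN hpd hm hm1)
      have hnest : ((done.map (dat G)).all fun y => nestOK (dat G p) y && nestOK y (dat G p)) = true := by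
        simp only [List.all_eq_true, List.forall_mem_map, Bool.and_eq_true]
        exact fun q hq => ⟨nestOK_dat hN hp (hmem q (by simp [hq])), nestOK_dat hN (hmem q (by simp [hq])) hp⟩
      simp only [dat] at hnest
      rcases h' with h' | h'
      · exact absurd (hnest.symm.trans h') (by decide)
      · have := ih (p :: done) (fun q hq => hmem q (by
          simp only [List.mem_append, List.mem_cons] at hq ⊢; tauto)) (by simpa [dat] using h')
        simpa using this
  simpa using key [19, 11, 7, 5, 3] [] (by simp) (by simpa using go_ok)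

/-- The two possibilities. -/
theorem data_cases [IsSimpleGroup G] (hN : Nat.card G = ord)
    (hconj : ∀ u v : G, orderOf u = 2 → orderOf v = 2 → IsConj u v) {t : G} (ht : orderOf t = 2) :
    dat G 3 = (3, 2926, 10) ∧ dat G 5 = (5, 2926, 6) ∧
      (Nat.card ↥(centralizer ({t} : Set G)) = 120 ∨
        Nat.card ↥(centralizer ({t} : Set G)) = 1320) := by
  have hX := card_centralizer_eq_centOrd hN hconj ht
  have h := leafOK_dat (G := G) hN
  have hmem : ∀ p ∈ ([3, 5, 7, 11, 19] : List ℕ), p ∈ ([19, 11, 7, 5, 3] : List ℕ) := by decide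
  have hall : (([3, 5, 7, 11, 19] : List ℕ).map (dat G)).all
      (fun x => invOK (centOrd (([3, 5, 7, 11, 19] : List ℕ).map (dat G))) x) = true := by
    simp only [List.all_eq_true, List.forall_mem_map]
    intro p hp
    rw [← hX]
    simp only [invOK, Bool.or_eq_true, Bool.not_eq_true', List.any_eq_true, List.mem_range]
    by_cases hc : 2 ∣ cPart p G
    · haveI := Fact.mk (prime_of_mem (hmem p hp))
      obtain ⟨K, hK⟩ := exists_subgroup hN (hmem p hp)
      have hch := invChoice_dat hN hconj ht (hmem p hp) hc hK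
      have hch' := hch
      simp only [invChoice, Bool.and_eq_true, Nat.beq_eq, dat] at hch'
      have hpX : p ∣ Nat.card ↥(centralizer ({t} : Set G)) :=
        (dvd_card_centralizer_iff hN hconj ht (hmem p hp)).2 hc
      refine Or.inr ⟨numSub p (centralizer ({t} : Set G)), Nat.lt_succ_of_le (Nat.le_of_dvd
        (Nat.div_pos (Nat.le_of_dvd Nat.card_pos hpX) (prime_of_mem (hmem p hp)).pos)
        (Nat.dvd_of_mod_eq_zero hch'.1)), ?_⟩
      rw [hch'.2.2.2.1]
      simp only [dat]
      rw [Nat.mul_div_cancel_left _ Nat.card_pos]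
      exact hch
    · exact Or.inl (Bool.eq_false_iff.2 fun e => hc (Nat.dvd_of_mod_eq_zero (Nat.eq_of_beq_eq_true e)))
  simp only [leafOK, Bool.or_eq_true, Bool.not_eq_true', hall,
    not_tooMany hN [3, 5, 7, 11, 19] hmem (by decide)] at h
  simp only [or_false, Bool.false_eq_true, Bool.true_eq_false] at h
  rw [hX]
  simp only [List.map_cons, List.map_nil] at h ⊢
  generalize dat G 3 = a, dat G 5 = b, dat G 7 = c, dat G 11 = d, dat G 19 = e at h ⊢
  unfold survivor at h
  split at h
  · rename_i _ c' heq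
    simp only [List.cons.injEq, and_true] at heq
    obtain ⟨rfl, rfl, rfl, rfl, rfl⟩ := heq
    rw [Bool.or_eq_true, Nat.beq_eq, Nat.beq_eq] at h
    rcases h with rfl | rfl <;> exact ⟨rfl, rfl, by decide⟩
  · exact Bool.noConfusion h

theorem choice_small : ∀ m ∈ List.range 441, ∀ i ∈ List.range 10,
    (invChoice 120 (5, 2926, 6) m i = true → m = 6) ∧ (invChoice 120 (3, 2926, 10) m i = true → m = 10) ∧
      (invChoice 1320 (5, 2926, 6) m i = true → m = 66) ∧
      (invChoice 1320 (3, 2926, 10) m i = true → i = 1) := by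
  decide +kernel

theorem choice_spec {X p n c m i : ℕ} (h : invChoice X (p, n, c) m i = true) (hX : X ≤ 1320)
    (hp : 3 ≤ p) (hc : c ≤ 10) (hX0 : 0 < X / p) : m < 441 ∧ i < 10 := by
  simp only [invChoice, Bool.and_eq_true, Nat.beq_eq, Nat.blt_eq] at h
  have h1 : m ≤ X / p := Nat.le_of_dvd hX0 (Nat.dvd_of_mod_eq_zero h.1)
  have h2 : X / p ≤ 1320 / 3 := (Nat.div_le_div_right hX).trans (Nat.div_le_div_left hp (by norm_num))
  omega

theorem exists_involution (hN : Nat.card G = ord) : ∃ t : G, orderOf t = 2 :=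
  haveI : Fact (Nat.Prime 2) := ⟨Nat.prime_two⟩
  exists_prime_orderOf_dvd_card' 2 (by rw [hN]; exact ⟨87780, rfl⟩)

/-- The centraliser of an involution. -/
theorem centralizer_involution [IsSimpleGroup G] (hN : Nat.card G = ord) :
    ∃ (S : Sylow 2 G) (t : G), orderOf t = 2 ∧ IsMulCommutative (S : Subgroup G) ∧
      Nat.card S = 8 ∧
      Nonempty (centralizer ({t} : Set G) ≃* Multiplicative (ZMod 2) × alternatingGroup (Fin 5)) := by
  classical
  haveI : Fact (Nat.Prime 2) := ⟨Nat.prime_two⟩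
  haveI : Fact (Nat.Prime 3) := ⟨Nat.prime_three⟩
  haveI : Fact (Nat.Prime 5) := ⟨Nat.prime_five⟩
  have hG := not_comm hN
  obtain ⟨S₀⟩ := (inferInstance : Nonempty (Sylow 2 G))
  have h8 : ∀ S : Sylow 2 G, Nat.card (S : Subgroup G) = 8 := fun S => by
    simpa using card_sylow_eq (e := 3) (m := 21945) (by rw [hN]; rfl) (by norm_num) S
  have hconj := fun u v hu hv => isConj_involutions (u := u) (v := v) hG S₀ (h8 S₀) hu hv
  obtain ⟨t, b, ht, hb, htb, hcomm⟩ := exists_commuting_involutions hG (by rw [hN]; exact ⟨87780, rfl⟩)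
  obtain ⟨h3, h5, hX⟩ := data_cases hN hconj ht
  have mem3 : (3 : ℕ) ∈ ([19, 11, 7, 5, 3] : List ℕ) := by decide
  have mem5 : (5 : ℕ) ∈ ([19, 11, 7, 5, 3] : List ℕ) := by decide
  have c3 : cPart 3 G = 10 := congrArg (fun x => x.2.2) h3
  have c5 : cPart 5 G = 6 := congrArg (fun x => x.2.2) h5
  have n3 : Nat.card (Sylow 3 G) = 2926 := congrArg (fun x => x.2.1) h3
  have n5 : Nat.card (Sylow 5 G) = 2926 := congrArg (fun x => x.2.1) h5
  obtain ⟨K3, hK3⟩ := exists_subgroup hN mem3
  obtain ⟨K5, hK5⟩ := exists_subgroup hN mem5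
  have i3 := invChoice_dat hN hconj ht mem3 (by rw [c3]; norm_num) hK3
  have i5 := invChoice_dat hN hconj ht mem5 (by rw [c5]; norm_num) hK5
  rw [h3] at i3
  rw [h5] at i5
  set C := centralizer ({t} : Set G) with hC
  rcases hX with hX | hX
  swap
  · -- the centraliser of order 1320 cannot occur
    exfalso
    rw [hX] at i3 i5
    have b3 := choice_spec i3 le_rfl le_rfl le_rfl (by norm_num)
    have b5 := choice_spec i5 le_rfl (by norm_num) (by norm_num) (by norm_num)
    have h1 := (choice_small _ (List.mem_range.2 b3.1) _ (List.mem_range.2 b3.2)).2.2.2 i3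
    obtain ⟨Q, k, hQ, hQK, hk, hk1, hkM⟩ :=
      numSub_normalizer hN mem3 mem5 (by norm_num) (by rw [c3]; norm_num) hK3
    rw [c3] at hk
    have hk' : k = 1 := by
      have := Nat.le_of_dvd (by norm_num) hk
      omega
    rw [hk', one_mul, (local_orders hN mem3 hK3).2, n3] at hkM
    obtain ⟨⟨u, huo, huK⟩⟩ : Nonempty {u : G // orderOf u = 2 ∧ u ∈ centralizer (K3 : Set G)} :=
      (Nat.card_ne_zero.1 (show numInv (centralizer (K3 : Set G)) ≠ 0 by omega)).1
    have huniq : ∀ v : G, orderOf v = 2 → v ∈ centralizer (K3 : Set G) → v = u := by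
      intro v hv hvK
      obtain ⟨hs, -⟩ := Nat.card_eq_one_iff_unique.1 h1
      exact congrArg Subtype.val (hs.elim
        (⟨v, hv, hvK⟩ : {u : G // orderOf u = 2 ∧ u ∈ centralizer (K3 : Set G)}) ⟨u, huo, huK⟩)
    have hNu : normalizer (K3 : Set G) ≤ centralizer ({u} : Set G) := by
      intro n hn
      have hmem : n * u * n⁻¹ ∈ centralizer (K3 : Set G) := by
        refine mem_centralizer_iff.2 fun a ha => ?_
        have ha' : n⁻¹ * a * n ∈ K3 := by
          have := (mem_normalizer_iff.1 (inv_mem hn) a).1 ha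
          rwa [inv_inv] at this
        have := mem_centralizer_iff.1 huK _ ha'
        calc a * (n * u * n⁻¹) = n * (n⁻¹ * a * n * u) * n⁻¹ := by group
          _ = n * (u * (n⁻¹ * a * n)) * n⁻¹ := by rw [this]
          _ = _ := by group
      have h2 := huniq _ (by rw [← MulAut.conj_apply, MulEquiv.orderOf_eq, huo]) hmem
      exact mem_centralizer_singleton_iff.2 (mul_inv_eq_iff_eq_mul.1 h2)
    have hQu : Q ≤ centralizer ({u} : Set G) :=
      (hQK.trans (centralizer_le_normalizer _)).trans hNu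
    obtain ⟨g, hg⟩ := isConj_iff.1 (hconj t u ht huo)
    subst hg
    rw [← centralizer_map_conj g t] at hNu hQu
    set Cu := (centralizer ({t} : Set G)).map (MulAut.conj g).toMonoidHom with hCu
    have hXu : Nat.card Cu = 1320 := by
      rw [hCu, card_map_of_injective (MulAut.conj g).injective, hX]
    have hm := (numSub_facts hQu hQ (by rw [hXu]; norm_num)).2
    rw [numSub_map_equiv, (choice_small _ (List.mem_range.2 b5.1) _ (List.mem_range.2 b5.2)).2.2.1 i5,
      hXu] at hm
    have hle : Nat.card ↥(normalizer (K3 : Set G) ⊓ normalizer (Q : Set G)) ≤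
        Nat.card ↥(Cu ⊓ normalizer (Q : Set G)) :=
      Nat.le_of_dvd Nat.card_pos (card_dvd_of_le (inf_le_inf_right _ hNu))
    rw [hkM, show ord / 2926 = 60 from rfl] at hle
    omega
  · rw [hX] at i3 i5
    have b3 := choice_spec i3 (by norm_num) le_rfl le_rfl (by norm_num)
    have b5 := choice_spec i5 (by norm_num) (by norm_num) (by norm_num) (by norm_num)
    have m3 := (choice_small _ (List.mem_range.2 b3.1) _ (List.mem_range.2 b3.2)).2.1 i3
    have m5 := (choice_small _ (List.mem_range.2 b5.1) _ (List.mem_range.2 b5.2)).1 i5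
    have hdC : ∀ p : ℕ, p.Prime → p ∣ 120 → ¬ p ^ 2 ∣ 120 →
        numSub p (⊤ : Subgroup C) = numSub p C := by
      intro p hp hd h2
      haveI := Fact.mk hp
      rw [numSub_top (by rwa [hX]) (by rwa [hX]), card_sylow_eq_numSub (by rwa [hX]) (by rwa [hX])]
    have hns := not_isSolvable_of_counts (C := C) hX
      ((hdC 5 Nat.prime_five (by norm_num) (by norm_num)).trans m5)
      ((hdC 3 Nat.prime_three (by norm_num) (by norm_num)).trans m3)
    obtain ⟨T⟩ := (inferInstance : Nonempty (Sylow 2 C))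
    have htC : t ∈ C := mem_centralizer_singleton_iff.2 rfl
    have hbC : b ∈ C := mem_centralizer_singleton_iff.2 hcomm.symm
    obtain ⟨hTc, he⟩ := equiv_two_times_altFive (C := C) (z := ⟨t, htC⟩) (u := ⟨b, hbC⟩)
      (by rw [Subgroup.orderOf_mk, ht])
      (mem_center_iff.2 fun y => Subtype.ext (mem_centralizer_singleton_iff.1 y.2))
      (by rw [Subgroup.orderOf_mk, hb]) (fun e => htb (congrArg Subtype.val e).symm) hX hns T
    have hT8 : Nat.card (T : Subgroup C) = 8 := by
      simpa using card_sylow_eq (e := 3) (m := 15) (by rw [hX]; norm_num) (by norm_num) T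
    set P := (T : Subgroup C).map C.subtype with hP
    have hP8 : Nat.card P = 8 := by rw [hP, card_map_of_injective C.subtype_injective, hT8]
    obtain ⟨S, hS⟩ := (IsPGroup.of_card (p := 2) (n := 3) (G := P) (by rw [hP8]; norm_num)).exists_le_sylow
    have hPS : P = (S : Subgroup G) := eq_of_le_of_card_ge hS (by rw [hP8, h8 S])
    refine ⟨S, t, ht, ?_, h8 S, he⟩
    rw [← hPS]
    refine ⟨⟨?_⟩⟩
    rintro ⟨_, x, hx, rfl⟩ ⟨_, y, hy, rfl⟩
    exact Subtype.ext (congrArg (fun z => C.subtype z.1) (hTc.is_comm.comm ⟨x, hx⟩ ⟨y, hy⟩))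

end CfsgLib.Order175560
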